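import Groth.Agent.FlatDim.Trdeg

/-!
# Dimensions of closed subsets of fibres through transcendence degrees of their points
-/

set_option autoImplicit false
set_option linter.style.haveILetI false
set_option backward.isDefEq.respectTransparency false

universe u

open CategoryTheory AlgebraicGeometry Topology TopologicalSpace Groth.Agent.DimFormulaLib

namespace Groth.Agent.FibSetDimLib

variable {X Y : Scheme.{u}} (f : X ⟶ Y) [LocallyOfFiniteType f]

theorem exists_nat_resTrdeg (x : X) : ∃ t : ℕ, resTrdegAt f x = t := by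
  haveI : LocallyOfFiniteType (f.fiberToSpecResidueField (f x)) := MorphismProperty.pullback_snd _ _ inferInstance
  haveI : LocallyOfFiniteType (Y := Spec (CommRingCat.of (Y.residueField (f x)))) (f.fiberToSpecResidueField (f x)) := ‹_›
  obtain ⟨t, ht, -⟩ := FlatDim.topologicalKrullDim_closure (Y.residueField (f x)) (f.fiberToSpecResidueField (f x)) (f.asFiber x)
  exact ⟨t, by rw [← ht, FlatDim.resTrdegAt_fibre, f.fiberι_asFiber]⟩

/-- The dimension of a closed subset of a scheme over a field. -/
theorem dim_closed_le_iff {k : Type u} [Field k] {F : Scheme.{u}} (q : F ⟶ Spec (CommRingCat.of k))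
    [LocallyOfFiniteType q] (C : Set F) (hC : IsClosed C) (d : WithBot ℕ∞) :
    topologicalKrullDim ↥C ≤ d ↔ ∀ z ∈ C, ∀ t : ℕ, resTrdegAt q z = t → (t : WithBot ℕ∞) ≤ d := by
  constructor
  · intro h z hz t ht
    obtain ⟨t', ht', hd⟩ := FlatDim.topologicalKrullDim_closure k q z
    have : t = t' := by exact_mod_cast ht.symm.trans ht'
    rw [this, ← hd]
    have hsub : closure ({z} : Set F) ⊆ C := hC.closure_subset_iff.mpr (Set.singleton_subset_iff.mpr hz)
    exact le_trans (IsInducing.topologicalKrullDim_le (f := Set.inclusion hsub)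
      (IsEmbedding.inclusion hsub).isInducing) h
  · intro h
    haveI : T0Space ↥C := Subtype.t0Space
    haveI : QuasiSober ↥C := hC.isClosedEmbedding_subtypeVal.quasiSober
    letI : Preorder ↥C := (specializationOrder ↥C).toPreorder
    rw [topologicalKrullDim, Order.krullDim_eq_of_orderIso (β := ↥C) (irreducibleSetEquivPoints (α := ↥C))]
    refine iSup_le fun s => ?_
    have hmono : StrictMono fun c : ↥C => (c : F) := fun a b hab =>
      lt_of_le_not_ge (show (b : F) ⤳ (a : F) from hab.le.map continuous_subtype_val)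
        fun hba => hab.not_ge ((subtype_specializes_iff a b).mpr hba)
    obtain ⟨a, t, -, ht, -, hh⟩ := field_dims q (s.last : F)
    refine le_trans ?_ (h _ s.last.2 t ht)
    have := Order.length_le_height_last (p := s.map _ hmono)
    rw [LTSeries.last_map, hh] at this
    exact_mod_cast this

/-- The dimension of a subset of a fibre which is closed in it. -/
theorem dim_le_iff (y : Y) (Z : Set X) (hZy : Z ⊆ f ⁻¹' {y}) (hZ : IsClosed (f.fiberι y ⁻¹' Z)) (d : WithBot ℕ∞) :
    topologicalKrullDim ↥Z ≤ d ↔ ∀ x ∈ Z, ∀ t : ℕ, resTrdegAt f x = t → (t : WithBot ℕ∞) ≤ d := by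
  have hsurj : Set.SurjOn (f.fiberι y) (f.fiberι y ⁻¹' Z) Z := fun x hx => by
    obtain ⟨z, rfl⟩ : x ∈ Set.range (f.fiberι y) := by rw [f.range_fiberι]; exact hZy hx
    exact ⟨z, hx, rfl⟩
  let g : ↥(f.fiberι y ⁻¹' Z) → ↥Z := Set.MapsTo.restrict (f.fiberι y) _ _ (fun _ hz => hz)
  have hg : IsHomeomorph g := isHomeomorph_iff_isEmbedding_surjective.mpr
    ⟨IsEmbedding.of_comp (Continuous.restrict _ (f.fiberι y).continuous) continuous_subtype_val
      ((f.fiberι y).isEmbedding.comp IsEmbedding.subtypeVal), fun ⟨x, hx⟩ => by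
      obtain ⟨z, hz, rfl⟩ := hsurj hx
      exact ⟨⟨z, hz⟩, rfl⟩⟩
  haveI : LocallyOfFiniteType (f.fiberToSpecResidueField y) := MorphismProperty.pullback_snd _ _ inferInstance
  haveI : LocallyOfFiniteType (Y := Spec (CommRingCat.of (Y.residueField y))) (f.fiberToSpecResidueField y) := ‹_›
  rw [← IsHomeomorph.topologicalKrullDim_eq g hg, dim_closed_le_iff (f.fiberToSpecResidueField y) _ hZ d]
  constructor
  · intro h x hx t ht
    obtain ⟨z, hz, rfl⟩ := hsurj hx
    exact h z hz t (by rw [FlatDim.resTrdegAt_fibre]; exact ht)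
  · intro h z hz t ht
    exact h _ hz t (by rw [← FlatDim.resTrdegAt_fibre]; exact ht)

/-- Strict variant with a natural bound. -/
theorem dim_lt_iff (y : Y) (Z : Set X) (hZy : Z ⊆ f ⁻¹' {y}) (hZ : IsClosed (f.fiberι y ⁻¹' Z)) (n : ℕ) :
    topologicalKrullDim ↥Z < n ↔ ∀ x ∈ Z, resTrdegAt f x < n := by
  cases n with
  | zero =>
    constructor
    · intro h x hx
      obtain ⟨t, ht⟩ := exists_nat_resTrdeg f x
      have h1 := (dim_le_iff f y Z hZy hZ (topologicalKrullDim ↥Z)).mp le_rfl x hx t ht
      exact absurd (lt_of_le_of_lt h1 h) (not_lt.mpr (by exact_mod_cast t.zero_le))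
    · intro h
      have : topologicalKrullDim ↥Z ≤ ⊥ := (dim_le_iff f y Z hZy hZ ⊥).mpr fun x hx => absurd (h x hx) (by simp)
      exact lt_of_le_of_lt this (WithBot.bot_lt_coe _)
  | succ m =>
    have hstep : topologicalKrullDim ↥Z < ((m + 1 : ℕ) : WithBot ℕ∞) ↔ topologicalKrullDim ↥Z ≤ (m : WithBot ℕ∞) := by
      generalize topologicalKrullDim ↥Z = D
      induction D using WithBot.recBotCoe with
      | bot => simp only [bot_le, iff_true]; exact WithBot.bot_lt_coe _
      | coe D =>
        change (D : WithBot ℕ∞) < (((m + 1 : ℕ) : ℕ∞) : WithBot ℕ∞) ↔ (D : WithBot ℕ∞) ≤ ((m : ℕ∞) : WithBot ℕ∞)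
        rw [WithBot.coe_lt_coe, WithBot.coe_le_coe, Nat.cast_succ]
        exact ENat.lt_add_one_iff (ENat.natCast_ne_top m)
    rw [hstep, dim_le_iff f y Z hZy hZ]
    constructor
    · intro h x hx
      obtain ⟨t, ht⟩ := exists_nat_resTrdeg f x
      have h1 := h x hx t ht
      rw [ht]
      exact_mod_cast Nat.lt_succ_of_le (show t ≤ m by exact_mod_cast h1)
    · intro h x hx t ht
      have h1 := h x hx
      rw [ht] at h1
      exact_mod_cast Nat.le_of_lt_succ (show t < m + 1 by exact_mod_cast h1)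

end Groth.Agent.FibSetDimLib
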