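import Groth.Agent.DimFormulaLib.Converse
import Groth.Agent.DimFormulaLib.Closed

/-!
# Transcendence degrees in the support of a flat module
-/

set_option autoImplicit false
set_option linter.style.haveILetI false
set_option maxHeartbeats 1000000
set_option backward.isDefEq.respectTransparency false

universe u

open MvPolynomial IsLocalRing TensorProduct

noncomputable section

namespace Groth.Agent.FibSetDimLib

variable {R S : Type u} [CommRing R] [CommRing S] [Algebra R S]

/-- A polynomial whose coefficients do not all lie in `p` does not kill a nonzero flat finite module at `q`,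
when evaluated at elements which are independent modulo `q`. -/
theorem aeval_smul_ne_zero {L : Type u} [AddCommGroup L] [Module R L] [Module S L] [IsScalarTower R S L]
    [Module.Flat R L] (p : Ideal R) [p.IsPrime] (q : Ideal S) [q.IsPrime] [q.LiesOver p]
    (Sq : Type u) [CommRing Sq] [Algebra S Sq] [IsLocalization.AtPrime Sq q] [IsLocalRing Sq] [Module Sq L]
    [IsScalarTower S Sq L] [Module.Finite Sq L] [Nontrivial L] {t : ℕ} (T : Fin t → S)
    (hT : ∀ P : MvPolynomial (Fin t) R, aeval T P ∈ q → ∀ α, coeff α P ∈ p) :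
    ∃ n : L, ∀ (p₀ : Ideal R), p₀ ≤ p → ∀ P : MvPolynomial (Fin t) R, (∃ α, coeff α P ∉ p₀) → p₀.IsPrime →
      aeval T P • n ≠ 0 := by
  classical
  -- an element outside `q L`
  obtain ⟨n, hn⟩ : ∃ n : L, n ∉ maximalIdeal Sq • (⊤ : Submodule Sq L) := by
    by_contra h
    simp only [not_exists, not_not] at h
    have := Submodule.eq_bot_of_le_smul_of_le_jacobson_bot (maximalIdeal Sq) (⊤ : Submodule Sq L)
      Module.Finite.fg_top (fun x _ => h x) (by rw [IsLocalRing.jacobson_eq_maximalIdeal ⊥ bot_ne_top])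
    exact not_nontrivial_iff_subsingleton.mpr ((Submodule.subsingleton_iff Sq).mp
      (subsingleton_iff_bot_eq_top.mp this.symm)) ‹_›
  have hcomap : p = q.comap (algebraMap R S) := Ideal.LiesOver.over (p := p) (P := q)
  let A := Localization.AtPrime p
  let φ : A →+* Sq := IsLocalization.lift (M := p.primeCompl) (g := (algebraMap S Sq).comp (algebraMap R S))
    fun r => IsLocalization.map_units Sq (⟨algebraMap R S r.1, fun h => r.2 (hcomap ▸ h)⟩ : q.primeCompl)
  letI : Module A L := Module.compHom L φ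
  have hφ : ∀ r : R, φ (algebraMap R A r) = algebraMap S Sq (algebraMap R S r) := fun r => IsLocalization.lift_eq _ r
  haveI : IsScalarTower R A L := .of_algebraMap_smul fun r x => by
    show φ (algebraMap R A r) • x = r • x
    rw [hφ, algebraMap_smul, algebraMap_smul]
  haveI : Module.Flat A L := (Module.flat_iff_of_isLocalization A p.primeCompl L).mpr inferInstance
  have hmA : ∀ x ∈ (maximalIdeal A • ⊤ : Submodule A L), x ∈ maximalIdeal Sq • (⊤ : Submodule Sq L) := fun x hx =>
    Submodule.smul_induction_on hx (fun a ha y _ => by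
      show φ a • y ∈ _
      refine Submodule.smul_mem_smul ?_ trivial
      rw [← IsLocalization.AtPrime.map_eq_maximalIdeal p A] at ha
      refine (Ideal.map_le_iff_le_comap.mpr fun r hr => ?_ : Ideal.map (algebraMap R A) p ≤ Ideal.comap φ (maximalIdeal Sq)) ha
      rw [Ideal.mem_comap, Ideal.mem_comap, hφ, IsLocalization.AtPrime.to_map_mem_maximal_iff Sq q]
      exact (hcomap ▸ hr : r ∈ q.comap (algebraMap R S))) fun _ _ => add_mem
  let v : (Fin t →₀ ℕ) → L := fun α => aeval T (monomial α (1 : R)) • n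
  have hsum : ∀ (s : Finset (Fin t →₀ ℕ)) (c : (Fin t →₀ ℕ) → R),
      aeval T (∑ α ∈ s, monomial α (c α)) • n = ∑ α ∈ s, algebraMap R A (c α) • v α := fun s c => by
    rw [map_sum, Finset.sum_smul]
    refine Finset.sum_congr rfl fun α _ => ?_
    rw [algebraMap_smul, show monomial α (c α) = c α • monomial α (1 : R) by rw [smul_monomial, smul_eq_mul, mul_one],
      map_smul, smul_assoc]
  have hli : LinearIndependent A v := by
    refine Module.IsLocalRing.linearIndependent_of_flat v (linearIndependent_iff'.mpr fun s g hg i hi => ?_)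
    choose c hc using fun α => IsLocalRing.residue_surjective (g α)
    obtain ⟨d, hd⟩ := IsLocalization.exist_integer_multiples p.primeCompl s c
    choose e he using hd
    let r : (Fin t →₀ ℕ) → R := fun α => if h : α ∈ s then e α h else 0
    have hr : ∀ α ∈ s, algebraMap R A (r α) = algebraMap R A d * c α := fun α hα => by
      simp only [r, dif_pos hα]
      exact (he α hα).trans (Algebra.smul_def _ _)
    have h1 : aeval T (∑ α ∈ s, monomial α (r α)) • n ∈ (maximalIdeal A • ⊤ : Submodule A L) := by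
      rw [hsum, ← LinearMap.ker_tensorProductMk, LinearMap.mem_ker, map_sum]
      refine (Finset.sum_congr rfl (g := fun α => algebraMap A (ResidueField A) (algebraMap R A d) •
        (g α • ((1 : ResidueField A) ⊗ₜ[A] v α))) fun α hα => ?_).trans ?_
      · rw [map_smul, hr α hα, mul_smul, ← hc α]
        exact ((algebraMap_smul (ResidueField A) (algebraMap R A d) _).trans
          (congrArg (algebraMap R A d • ·) (algebraMap_smul (ResidueField A) (c α) ((1 : ResidueField A) ⊗ₜ[A] v α)))).symm
      · rw [← Finset.smul_sum]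
        exact (congrArg _ hg).trans (smul_zero _)
    have h2 : aeval T (∑ α ∈ s, monomial α (r α)) ∈ q := by
      by_contra hu
      refine hn ?_
      have h3 := hmA _ h1
      rw [← algebraMap_smul Sq (aeval T (∑ α ∈ s, monomial α (r α))) n] at h3
      exact (Submodule.smul_mem_iff_of_isUnit _ (IsLocalization.map_units Sq (⟨_, hu⟩ : q.primeCompl))).mp h3
    have h4 := hT _ h2 i
    rw [coeff_sum, Finset.sum_eq_single i (fun b _ hb => by rw [coeff_monomial, if_neg hb])
      (fun hn => absurd hi hn), coeff_monomial, if_pos rfl] at h4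
    rw [← hc i]
    refine (IsLocalRing.residue_eq_zero_iff _).mpr ?_
    have h5 : algebraMap R A (r i) ∈ maximalIdeal A := (IsLocalization.AtPrime.to_map_mem_maximal_iff A p _).mpr h4
    rw [hr i hi] at h5
    exact ((maximalIdeal.isMaximal A).isPrime.mem_or_mem h5).resolve_left fun h =>
      d.2 ((IsLocalization.AtPrime.to_map_mem_maximal_iff A p _).mp h)
  refine ⟨n, fun p₀ hp₀ P ⟨α, hα⟩ hp₀' h0 => ?_⟩
  have hz : ∑ β ∈ P.support, algebraMap R A (coeff β P) • v β = 0 := by
    rw [← hsum, ← P.as_sum]; exact h0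
  have hs : α ∈ P.support := mem_support_iff.mpr fun h => hα (h ▸ p₀.zero_mem)
  obtain ⟨u, hu⟩ := (IsLocalization.map_eq_zero_iff p.primeCompl A _).mp (linearIndependent_iff'.mp hli _ _ hz α hs)
  exact hα ((hp₀'.mem_or_mem (hu ▸ p₀.zero_mem)).resolve_left fun h => u.2 (hp₀ h))

/-- In the support of a module flat at `q` there is a prime over a minimal prime of the base with at least the
transcendence degree of `q`. -/
theorem exists_prime_trdeg_ge {N : Type u} [AddCommGroup N] [Module R N] [Module S N] [IsScalarTower R S N]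
    [Module.Finite S N] (p : Ideal R) [p.IsPrime] (q : Ideal S) [q.IsPrime] [q.LiesOver p]
    [Module.Flat R (LocalizedModule q.primeCompl N)] [Nontrivial (LocalizedModule q.primeCompl N)]
    (p₀ : Ideal R) [p₀.IsPrime] (hp₀ : p₀ ≤ p) (hmin : ∀ P : Ideal R, P.IsPrime → P ≤ p₀ → p₀ ≤ P)
    (t : ℕ) (ht : Algebra.trdeg (R ⧸ p) (S ⧸ q) = t) :
    ∃ (Q : Ideal S) (_ : Q.IsPrime) (_ : Q.LiesOver p₀), (⟨Q, ‹_›⟩ : PrimeSpectrum S) ∈ Module.support S N ∧
      (t : Cardinal.{u}) ≤ Algebra.trdeg (R ⧸ p₀) (S ⧸ Q) := by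
  classical
  haveI : FaithfulSMul (R ⧸ p) (S ⧸ q) :=
    (faithfulSMul_iff_algebraMap_injective _ _).2 (Ideal.quotientMap_injective' (Ideal.LiesOver.over (p := p) (P := q)).ge)
  obtain ⟨ι, b, hb⟩ := exists_isTranscendenceBasis' (R ⧸ p) (S ⧸ q)
  have hcard : Cardinal.mk ι = t := by rw [hb.cardinalMk_eq_trdeg, ht]
  haveI : Finite ι := Cardinal.lt_aleph0_iff_finite.mp (hcard ▸ Cardinal.natCast_lt_aleph0)
  cases nonempty_fintype ι
  obtain ⟨eι⟩ : Nonempty (Fin t ≃ ι) := ⟨(Fintype.equivFinOfCardEq (by
    rw [Cardinal.mk_fintype] at hcard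
    exact_mod_cast hcard)).symm⟩
  choose T hTb using fun i => Ideal.Quotient.mk_surjective (b (eι i))
  have hind : AlgebraicIndependent (R ⧸ p) (fun i => Ideal.Quotient.mk q (T i)) := by
    simp_rw [hTb]
    exact hb.1.comp eι eι.injective
  have hT : ∀ P : MvPolynomial (Fin t) R, aeval T P ∈ q → ∀ α, coeff α P ∈ p := fun P hP α => by
    have h1 : aeval (fun i => Ideal.Quotient.mk q (T i)) (MvPolynomial.map (algebraMap R (R ⧸ p)) P) = 0 := by
      rw [MvPolynomial.aeval_map_algebraMap, ← Ideal.Quotient.eq_zero_iff_mem.mpr hP]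
      exact (MvPolynomial.comp_aeval_apply (φ := Ideal.Quotient.mkₐ R q) T P).symm
    have h3 := congrArg (coeff α) (hind.eq_zero_of_aeval_eq_zero _ h1)
    rw [coeff_map, coeff_zero] at h3
    exact Ideal.Quotient.eq_zero_iff_mem.mp h3
  obtain ⟨n, hn⟩ := aeval_smul_ne_zero p q (Localization.AtPrime q) (L := LocalizedModule q.primeCompl N) T hT
  haveI : (p₀.map (C : R →+* MvPolynomial (Fin t) R)).IsPrime := by
    rw [show p₀.map (C : R →+* MvPolynomial (Fin t) R) = RingHom.ker (MvPolynomial.map (Ideal.Quotient.mk p₀) : MvPolynomial (Fin t) R →+* _) by rw [ker_map, Ideal.mk_ker]]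
    exact RingHom.ker_isPrime _
  let M : Submonoid S := (Submonoid.map (aeval T : MvPolynomial (Fin t) R →ₐ[R] S)
    (p₀.map (C : R →+* MvPolynomial (Fin t) R)).primeCompl)
  have hM : Disjoint ((Module.annihilator S N : Ideal S) : Set S) M := by
    rw [Set.disjoint_left]
    rintro _ ha ⟨P, hP, rfl⟩
    have hex : ∃ α, coeff α P ∉ p₀ := by
      by_contra h
      exact hP (mem_map_C_iff.mpr fun α => not_not.mp fun h' => h ⟨α, h'⟩)
    refine hn p₀ hp₀ P hex inferInstance ?_
    induction n using LocalizedModule.induction_on with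
    | h m s => rw [LocalizedModule.smul'_mk, Module.mem_annihilator.mp ha m, LocalizedModule.zero_mk]
  obtain ⟨Q, hQ, hann, hdis⟩ := Ideal.exists_le_prime_disjoint (Module.annihilator S N) M hM
  have hlo : Q.LiesOver p₀ := by
    have hle : Q.comap (algebraMap R S) ≤ p₀ := fun r hr => by
      by_contra hr0
      refine Set.disjoint_left.mp hdis hr ⟨C r, fun h => hr0 ?_, aeval_C T r⟩
      simpa using mem_map_C_iff.mp h 0
    exact ⟨le_antisymm (hmin _ inferInstance hle) hle⟩
  refine ⟨Q, hQ, hlo, Module.mem_support_iff_of_finite.mpr hann, ?_⟩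
  have hindQ : AlgebraicIndependent (R ⧸ p₀) (fun i => Ideal.Quotient.mk Q (T i)) := by
    rw [algebraicIndependent_iff]
    intro P hP
    obtain ⟨P, rfl⟩ := MvPolynomial.map_surjective (algebraMap R (R ⧸ p₀)) Ideal.Quotient.mk_surjective P
    rw [MvPolynomial.aeval_map_algebraMap] at hP
    have h1 : aeval T P ∈ Q := by
      rw [← Ideal.Quotient.eq_zero_iff_mem, ← hP]
      exact (MvPolynomial.comp_aeval_apply (φ := Ideal.Quotient.mkₐ R Q) T P)
    have h2 : P ∈ p₀.map (C : R →+* MvPolynomial (Fin t) R) := by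
      by_contra h
      exact Set.disjoint_left.mp hdis h1 ⟨P, h, rfl⟩
    exact MvPolynomial.ext _ _ fun α => by
      rw [coeff_map, coeff_zero]; exact Ideal.Quotient.eq_zero_iff_mem.mpr (mem_map_C_iff.mp h2 α)
  haveI : FaithfulSMul (R ⧸ p₀) (S ⧸ Q) :=
    (faithfulSMul_iff_algebraMap_injective _ _).2 (Ideal.quotientMap_injective' (Ideal.LiesOver.over (p := p₀) (P := Q)).ge)
  have h := hindQ.lift_cardinalMk_le_trdeg
  rw [Cardinal.mk_fin, Cardinal.lift_natCast] at h
  simpa using h

end Groth.Agent.FibSetDimLib
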